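import Cfsg.Agent.Lib.OddOrder41.NormalElementary
import Cfsg.Agent.Lib.PGroup.Class2

/-!
p-groups (p odd) with one subgroup of order p, and faithful modules of p-groups in which all nonzero
vectors have stabilisers of one order.
-/

set_option autoImplicit false

open scoped commutatorElement

namespace CfsgLib.ConstStab

universe u

variable {P : Type u} [Group P]

theorem isCyclic_of_unique_prime_subgroup [Finite P] {p : ℕ} [hp : Fact p.Prime] (hp2 : p ≠ 2)
    (hP : IsPGroup p P)
    (huniq : ∀ x y : P, x ≠ 1 → x ^ p = 1 → y ^ p = 1 → y ∈ Subgroup.zpowers x) : IsCyclic P := by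
  suffices ∀ (n : ℕ) (H : Subgroup P), Nat.card H = n → IsCyclic H by
    exact Subgroup.topEquiv.isCyclic.1 (this _ ⊤ rfl)
  intro n
  induction n using Nat.strong_induction_on with
  | _ n ih =>
    intro H hn
    obtain ⟨e, he⟩ := (hP.to_subgroup H).exists_card_eq
    rcases Nat.lt_or_ge e 2 with hlt | hge
    · interval_cases e
      · have hb : H = ⊥ := Subgroup.eq_bot_of_card_eq H (by simpa using he)
        subst hb
        infer_instance
      · exact isCyclic_of_prime_card (p := p) (by simpa using he)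
    obtain ⟨e, rfl⟩ : ∃ d, e = d + 2 := ⟨e - 2, by omega⟩
    obtain ⟨M, hM, hMH⟩ : ∃ M : Subgroup P, Nat.card M = p ^ (e + 1) ∧ M ≤ H := by
      obtain ⟨M, hM⟩ := Sylow.exists_subgroup_card_pow_prime (G := H) p (n := e + 1)
        (by rw [he]; exact pow_dvd_pow p (by omega))
      exact ⟨M.map H.subtype, by rw [Subgroup.card_map_of_injective H.subtype_injective, hM],
        Subgroup.map_subtype_le _⟩
    haveI hidx : (M.subgroupOf H).Normal := by
      haveI := (hP.to_subgroup H).isNilpotent
      refine Subgroup.normal_of_index_eq_minFac_card ?_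
      have h1 := Subgroup.card_mul_index (M.subgroupOf H)
      rw [Nat.card_congr (Subgroup.subgroupOfEquivOfLe hMH).toEquiv, hM, he] at h1
      have h2 : (M.subgroupOf H).index = p :=
        Nat.eq_of_mul_eq_mul_left (pow_pos hp.out.pos (e + 1)) (h1.trans (by ring))
      rw [h2, he, Nat.pow_minFac (by omega), hp.out.minFac_eq]
    have hlt : Nat.card M < n := by
      rw [hM, ← hn, he]; exact Nat.pow_lt_pow_right hp.out.one_lt (by omega)
    obtain ⟨m, hm⟩ := (Subgroup.isCyclic_iff_exists_zpowers_eq_top M).1 (ih _ hlt M rfl)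
    subst hm
    have hmH : m ∈ H := hMH (Subgroup.mem_zpowers m)
    obtain ⟨x, hxH, hxM⟩ : ∃ x ∈ H, x ∉ Subgroup.zpowers m := by
      by_contra hc
      push Not at hc
      have := Subgroup.card_le_of_le (show H ≤ Subgroup.zpowers m from hc)
      omega
    have hconj : ∀ y ∈ Subgroup.zpowers m, x * y * x⁻¹ ∈ Subgroup.zpowers m := fun y hy => by
      have := hidx.conj_mem ⟨y, hMH hy⟩ hy ⟨x, hxH⟩
      simpa [Subgroup.mem_subgroupOf] using this
    have horm : orderOf m = p ^ (e + 1) := by rw [← hM, Nat.card_zpowers]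
    have hxp : x ^ p ∈ Subgroup.zpowers m := by
      have hMi : ((Subgroup.zpowers m).subgroupOf H).index = p := by
        have h1 := Subgroup.card_mul_index ((Subgroup.zpowers m).subgroupOf H)
        rw [Nat.card_congr (Subgroup.subgroupOfEquivOfLe hMH).toEquiv, hM, he] at h1
        exact Nat.eq_of_mul_eq_mul_left (pow_pos hp.out.pos (e + 1)) (h1.trans (by ring))
      have := ((Subgroup.zpowers m).subgroupOf H).pow_index_mem (⟨x, hxH⟩ : H)
      rw [hMi] at this
      simpa [Subgroup.mem_subgroupOf] using this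
    obtain ⟨i, hi⟩ := mem_powers_iff_mem_zpowers.2 hxp
    simp only at hi
    -- if `x ^ p` generates, then `H` is cyclic
    by_cases hpi : p ∣ i
    swap
    · have hox : orderOf x = p ^ (e + 2) := by
        obtain ⟨k, hk⟩ := (hP.to_subgroup H) ⟨x, hxH⟩
        have hxk : orderOf x ∣ p ^ k := orderOf_dvd_of_pow_eq_one (by
          simpa using congrArg Subtype.val hk)
        obtain ⟨j, -, hj⟩ := (Nat.dvd_prime_pow hp.out).1 hxk
        have h1 : orderOf (x ^ p) = p ^ (e + 1) := by
          rw [← hi, orderOf_pow, horm, (Nat.Coprime.pow_left (e + 1)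
            (hp.out.coprime_iff_not_dvd.2 hpi)).gcd_eq_one, Nat.div_one]
        have hdvd : p ∣ orderOf x := by
          rw [hj]
          refine dvd_pow_self p fun hj0 => hxM ?_
          rw [hj0, pow_zero, orderOf_eq_one_iff] at hj
          rw [hj]; exact one_mem _
        rw [orderOf_pow, Nat.gcd_eq_right hdvd] at h1
        obtain ⟨w, hw⟩ := hdvd
        rw [hw, Nat.mul_div_cancel_left _ hp.out.pos] at h1
        rw [hw, h1]; ring
      refine isCyclic_iff_exists_orderOf_eq_natCard.2 ⟨⟨x, hxH⟩, ?_⟩
      rw [← Subgroup.orderOf_coe, hox, he]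
    obtain ⟨j, rfl⟩ := hpi
    exfalso
    -- `x` commutes with `m ^ p`
    have hxmp : Commute x (m ^ p) := by
      let N := Subgroup.zpowers (m ^ p)
      have hNn : ∀ y ∈ N, x * y * x⁻¹ ∈ N := by
        intro y hy
        obtain ⟨k, rfl⟩ := Subgroup.mem_zpowers_iff.1 hy
        obtain ⟨l, hl⟩ := Subgroup.mem_zpowers_iff.1 (hconj m (Subgroup.mem_zpowers m))
        refine Subgroup.mem_zpowers_iff.2 ⟨l * k, ?_⟩
        rw [← conj_zpow, ← conj_pow, ← hl, ← zpow_natCast, ← zpow_natCast (m ^ l), ← zpow_mul,
          ← zpow_mul, ← zpow_mul]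
        ring_nf
      let K : Subgroup P := N ⊔ Subgroup.zpowers x
      have hKH : K ≤ H := sup_le (by rw [Subgroup.zpowers_le]; exact pow_mem hmH p)
        (by rw [Subgroup.zpowers_le]; exact hxH)
      have hxn : Subgroup.zpowers x ≤ Subgroup.normalizer (N : Set P) := by
        rw [Subgroup.zpowers_le, Subgroup.mem_normalizer_iff]
        intro y
        refine ⟨hNn y, fun hy => ?_⟩
        have hinj : Function.Injective (fun z : N => (⟨x * z * x⁻¹, hNn z z.2⟩ : N)) := fun z z' hz => by
          simpa using Subtype.ext_iff.1 hz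
        obtain ⟨z, hz⟩ := Finite.surjective_of_injective hinj ⟨_, hy⟩
        have : (z : P) = y := by simpa using Subtype.ext_iff.1 hz
        exact this ▸ z.2
      have hcardN : Nat.card N = p ^ e := by
        rw [Nat.card_zpowers, orderOf_pow, horm, pow_succ, Nat.gcd_eq_right (dvd_mul_left p _),
          Nat.mul_div_cancel _ hp.out.pos]
      have hK : Nat.card K < n := by
        by_contra hge'
        have hKeq : K = H := Subgroup.eq_of_le_of_card_ge hKH (by omega)
        obtain ⟨a, ha, b, hb, hab⟩ : ∃ a ∈ N, ∃ b ∈ Subgroup.zpowers x, a * b = m := by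
          have : m ∈ ((K : Subgroup P) : Set P) := by rw [hKeq]; exact hmH
          rw [Subgroup.coe_mul_of_right_le_normalizer_left _ _ hxn] at this
          exact this
        obtain ⟨k, rfl⟩ := mem_powers_iff_mem_zpowers.2 hb
        have haM : a ∈ Subgroup.zpowers m :=
          (Subgroup.zpowers_le.2 (pow_mem (Subgroup.mem_zpowers m) p)) ha
        have hkM : x ^ k ∈ Subgroup.zpowers m := by
          have : x ^ k = a⁻¹ * m := by rw [← hab, inv_mul_cancel_left]
          rw [this]; exact mul_mem (inv_mem haM) (Subgroup.mem_zpowers m)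
        have hpk : p ∣ k := by
          by_contra hnk
          apply hxM
          have hc : Nat.Coprime p k := hp.out.coprime_iff_not_dvd.2 hnk
          have hb := Nat.gcd_eq_gcd_ab p k
          rw [hc.gcd_eq_one] at hb
          have : x = (x ^ p) ^ Nat.gcdA p k * (x ^ k) ^ Nat.gcdB p k := by
            rw [← zpow_natCast x p, ← zpow_natCast x k, ← zpow_mul, ← zpow_mul, ← zpow_add, ← hb,
              Nat.cast_one, zpow_one]
          rw [this]
          exact mul_mem (zpow_mem hxp _) (zpow_mem hkM _)
        obtain ⟨k, rfl⟩ := hpk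
        have hmN : m ∈ N := by
          rw [← hab]
          show a * x ^ (p * k) ∈ N
          rw [pow_mul, ← hi, pow_mul, ← pow_mul (m ^ p)]
          exact mul_mem ha (pow_mem (Subgroup.mem_zpowers _) _)
        have := Subgroup.card_le_of_le (Subgroup.zpowers_le.2 hmN)
        rw [hM, hcardN] at this
        exact absurd this (not_le.2 (Nat.pow_lt_pow_right hp.out.one_lt (by omega)))
      haveI := ih _ hK K rfl
      haveI : IsMulCommutative K := IsCyclic.commutative
      have := congrArg Subtype.val (mul_comm'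
        (⟨x, Subgroup.mem_sup_right (Subgroup.mem_zpowers x)⟩ : K)
        ⟨m ^ p, Subgroup.mem_sup_left (Subgroup.mem_zpowers _)⟩)
      exact this
    -- the commutator `[m⁻¹, x]` is central in `⟨x, m⟩` of order dividing `p`
    set c := ⁅m⁻¹, x⁆ with hc
    have hcM : c ∈ Subgroup.zpowers m := by
      have := mul_mem (inv_mem (Subgroup.mem_zpowers m)) (hconj m (Subgroup.mem_zpowers m))
      simpa [hc, commutatorElement_def, mul_assoc] using this
    have hcm : Commute c m := by
      obtain ⟨k, hk⟩ := Subgroup.mem_zpowers_iff.1 hcM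
      rw [← hk]
      exact (Commute.refl m).zpow_left k
    obtain ⟨k, hk⟩ := mem_powers_iff_mem_zpowers.2 hcM
    simp only at hk
    have hpk : p ∣ k := by
      by_contra hnk
      have hgen : Subgroup.zpowers c = Subgroup.zpowers m := by
        refine Subgroup.eq_of_le_of_card_ge (Subgroup.zpowers_le.2 hcM) (le_of_eq ?_)
        rw [Nat.card_zpowers, Nat.card_zpowers, ← hk, orderOf_pow, horm,
          (Nat.Coprime.pow_left (e + 1) (hp.out.coprime_iff_not_dvd.2 hnk)).gcd_eq_one, Nat.div_one]
      haveI := hP.isNilpotent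
      obtain ⟨N, hN⟩ := Subgroup.nilpotent_iff_lowerCentralSeries.mp (inferInstance : Group.IsNilpotent P)
      have key : ∀ l, Subgroup.zpowers m ≤ (⊤ : Subgroup P).lowerCentralSeries l := by
        intro l
        induction l with
        | zero => simp
        | succ l ihl =>
          rw [← hgen, Subgroup.zpowers_le, Subgroup.lowerCentralSeries_succ, hc]
          exact Subgroup.commutator_mem_commutator (inv_mem (ihl (Subgroup.mem_zpowers m)))
            (Subgroup.mem_top x)
      have hm1 : m = 1 := by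
        have := key N (Subgroup.mem_zpowers m)
        rwa [hN, Subgroup.mem_bot] at this
      rw [hm1, orderOf_one] at horm
      exact absurd horm.symm (Nat.one_lt_pow (by omega) hp.out.one_lt).ne'
    obtain ⟨k, rfl⟩ := hpk
    have hcx : Commute c x := by
      rw [← hk, pow_mul]
      exact (hxmp.symm.pow_left k)
    -- work inside the subgroup `K` generated by `x` and `m`
    let K : Subgroup P := Subgroup.closure {x, m}
    have hxK : x ∈ K := Subgroup.subset_closure (by simp)
    have hmK : m⁻¹ ∈ K := inv_mem (Subgroup.subset_closure (by simp))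
    have hcK : ⁅(⟨m⁻¹, hmK⟩ : K), (⟨x, hxK⟩ : K)⁆ ∈ Subgroup.center K := by
      rw [Subgroup.mem_center_iff]
      rintro ⟨g, hg⟩
      apply Subtype.ext
      show g * c = c * g
      induction hg using Subgroup.closure_induction with
      | mem g hg =>
        rcases hg with rfl | hg
        · exact hcx.eq.symm
        · rw [Set.mem_singleton_iff.1 hg]; exact hcm.eq.symm
      | one => simp
      | mul a b _ _ ha hb =>
        exact ((Commute.mul_left (show Commute a c from ha) (show Commute b c from hb))).eq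
      | inv a _ ha => exact ((show Commute a c from ha).inv_left).eq
    have hcp : c ^ p = 1 := by
      have := congrArg Subtype.val (CfsgLib.PGroup.commutatorElement_pow_left_of_central hcK p)
      simp only [SubgroupClass.coe_pow] at this
      have hcom : Commute x (m⁻¹ ^ p) := by rw [inv_pow]; exact hxmp.inv_right
      rw [show (c : P) = ((⁅(⟨m⁻¹, hmK⟩ : K), (⟨x, hxK⟩ : K)⁆ : K) : P) from rfl, ← this]
      exact commutatorElement_eq_one_iff_mul_comm.2 hcom.eq.symm
    set y := x * (m ^ j)⁻¹ with hy
    have hyp : y ^ p = 1 := by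
      have hj : (⁅(⟨m⁻¹, hmK⟩ : K) ^ j, (⟨x, hxK⟩ : K)⁆) = ⁅(⟨m⁻¹, hmK⟩ : K), (⟨x, hxK⟩ : K)⁆ ^ j :=
        CfsgLib.PGroup.commutatorElement_pow_left_of_central hcK j
      have h1 := CfsgLib.PGroup.mul_pow_odd_of_central (x := (⟨x, hxK⟩ : K))
        (y := (⟨m⁻¹, hmK⟩ : K) ^ j) (p := p) (hp.out.odd_of_ne_two hp2)
        (by rw [hj]; exact pow_mem hcK j)
        (by
          rw [hj]; apply Subtype.ext
          show (c ^ j) ^ p = 1
          rw [← pow_mul, mul_comm, pow_mul, hcp, one_pow])
      have h2 := congrArg Subtype.val h1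
      simp only [SubgroupClass.coe_pow, Subgroup.coe_mul, inv_pow] at h2
      rw [hy, h2, ← pow_mul, mul_comm j p, hi, mul_inv_cancel]
    have hyM : y ∉ Subgroup.zpowers m := fun h => hxM (by
      have := mul_mem h (pow_mem (Subgroup.mem_zpowers m) j)
      simpa [hy] using this)
    have hz1 : (m ^ p ^ e) ≠ 1 := fun h => by
      have := orderOf_dvd_of_pow_eq_one h
      rw [horm] at this
      exact absurd (Nat.le_of_dvd (pow_pos hp.out.pos e) this)
        (not_le.2 (Nat.pow_lt_pow_right hp.out.one_lt (by omega)))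
    have hzp : (m ^ p ^ e) ^ p = 1 := by
      rw [← pow_mul, ← pow_succ, ← horm, pow_orderOf_eq_one]
    exact hyM ((Subgroup.zpowers_le.2 (pow_mem (Subgroup.mem_zpowers m) _)) (huniq _ y hz1 hzp hyp))

section Module

variable {E : Type*} [AddCommGroup E] [DistribMulAction P E]

/-- the sum over the first `p` powers of `g` -/
def avg (p : ℕ) (g : P) : E →+ E :=
  ∑ k ∈ Finset.range p, DistribMulAction.toAddMonoidHom E (g ^ k)

lemma avg_apply (p : ℕ) (g : P) (a : E) : avg p g a = ∑ k ∈ Finset.range p, (g ^ k) • a := by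
  simp [avg]

lemma avg_of_fixed (p : ℕ) {g : P} {a : E} (h : g • a = a) : avg p g a = p • a := by
  have : ∀ k : ℕ, (g ^ k) • a = a := fun k => by
    induction k with
    | zero => rw [pow_zero, one_smul]
    | succ k ih => rw [pow_succ, mul_smul, h, ih]
  simp [avg_apply, this]

lemma avg_smul_self {p : ℕ} {g : P} (hg : g ^ p = 1) (a : E) : avg p g (g • a) = avg p g a := by
  rw [avg_apply, avg_apply]
  have h1 := Finset.sum_range_succ' (fun k => (g ^ k) • a) p
  have h2 := Finset.sum_range_succ (fun k => (g ^ k) • a) p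
  rw [h2, hg, pow_zero, add_left_inj] at h1
  rw [h1]
  exact Finset.sum_congr rfl fun k _ => by rw [smul_smul, ← pow_succ]

lemma smul_avg_self {p : ℕ} {g : P} (hg : g ^ p = 1) (a : E) : g • avg p g a = avg p g a := by
  conv_rhs => rw [← avg_smul_self hg a]
  rw [avg_apply, avg_apply, Finset.smul_sum]
  exact Finset.sum_congr rfl fun k _ => by rw [smul_smul, smul_smul, ← pow_succ', pow_succ]

lemma smul_avg (p : ℕ) (g h : P) (a : E) : h • avg p g a = avg p (h * g * h⁻¹) (h • a) := by
  rw [avg_apply, avg_apply, Finset.smul_sum]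
  exact Finset.sum_congr rfl fun k _ => by rw [conj_pow, smul_smul, smul_smul, inv_mul_cancel_right]

variable {p : ℕ}

lemma eq_of_nsmul_eq (hinv : ∀ a : E, p • a = 0 → a = 0) {a b : E} (h : p • a = p • b) : a = b :=
  sub_eq_zero.1 (hinv _ (by rw [nsmul_sub, h, sub_self]))

variable [Finite P] [FaithfulSMul P E]

/-- a central element of order `p` fixes no nonzero vector -/
lemma eq_zero_of_central_fixed (hinv : ∀ a : E, p • a = 0 → a = 0)
    (hconst : ∀ a b : E, a ≠ 0 → b ≠ 0 →
      Nat.card (MulAction.stabilizer P a) = Nat.card (MulAction.stabilizer P b))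
    {g : P} (hg : g ^ p = 1) (hg1 : g ≠ 1) (hc : ∀ x : P, x * g = g * x) {a : E}
    (ha : g • a = a) : a = 0 := by
  by_contra ha0
  obtain ⟨v, hv⟩ : ∃ v : E, g • v ≠ v := by
    by_contra h
    push Not at h
    exact hg1 (eq_of_smul_eq_smul fun v : E => by rw [h v, one_smul])
  have hcomm : ∀ (x : P) (u : E), x • avg p g u = avg p g (x • u) := fun x u => by
    rw [smul_avg, hc, mul_inv_cancel_right]
  have hsplit : ∀ c b : E, g • c = c → avg p g b = 0 → c ≠ 0 → b ≠ 0 →
      MulAction.stabilizer P c = MulAction.stabilizer P b := by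
    intro c b hcf hb hc0 hb0
    have hne : c + b ≠ 0 := fun h => hc0 (hinv c (by
      have := congrArg (avg p g) h
      rwa [map_add, hb, add_zero, avg_of_fixed p hcf, map_zero] at this))
    have hle : MulAction.stabilizer P (c + b) ≤ MulAction.stabilizer P c ⊓ MulAction.stabilizer P b := by
      intro x hx
      rw [MulAction.mem_stabilizer_iff, smul_add] at hx
      have hxc : g • x • c = x • c := by rw [smul_smul, ← hc, mul_smul, hcf]
      have h := congrArg (avg p g) hx
      rw [map_add, map_add, ← hcomm x b, hb, smul_zero, add_zero, add_zero, avg_of_fixed p hxc,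
        avg_of_fixed p hcf] at h
      have h1 := eq_of_nsmul_eq hinv h
      rw [h1, add_right_inj] at hx
      exact ⟨h1, hx⟩
    have e1 := Subgroup.eq_of_le_of_card_ge (hle.trans inf_le_left) (hconst _ _ hc0 hne).le
    have e2 := Subgroup.eq_of_le_of_card_ge (hle.trans inf_le_right) (hconst _ _ hb0 hne).le
    rw [← e1, ← e2]
  have hb0 : v - g • v ≠ 0 := sub_ne_zero.2 (Ne.symm hv)
  have hbk : avg p g (v - g • v) = 0 := by rw [map_sub, avg_smul_self hg, sub_self]
  apply hg1
  refine eq_of_smul_eq_smul fun u : E => ?_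
  rw [one_smul]
  apply eq_of_nsmul_eq hinv
  have hall : ∀ c : E, avg p g c = 0 → g • c = c := by
    intro c hc'
    by_cases hc0 : c = 0
    · rw [hc0, smul_zero]
    · rw [← MulAction.mem_stabilizer_iff, ← hsplit a c ha hc' ha0 hc0]
      exact ha
  have h1 : avg p g (p • u - avg p g u) = 0 := by
    rw [map_sub, map_nsmul, avg_of_fixed p (smul_avg_self hg u), sub_self]
  have h2 := hall _ h1
  rw [smul_sub, smul_avg_self hg, sub_left_inj] at h2
  rw [← smul_comm]
  exact h2

theorem cyclic_and_fpf [Finite E] [hp : Fact p.Prime] (hp2 : p ≠ 2) (hP : IsPGroup p P) {q : ℕ}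
    (hq : q.Prime) (hE : ∀ e : E, q • e = 0)
    (hconst : ∀ a b : E, a ≠ 0 → b ≠ 0 →
      Nat.card (MulAction.stabilizer P a) = Nat.card (MulAction.stabilizer P b)) :
    IsCyclic P ∧ ∀ g : P, g ≠ 1 → ∀ a : E, g • a = a → a = 0 := by
  classical
  rcases subsingleton_or_nontrivial P with hs | hnt
  · exact ⟨inferInstance, fun g hg => absurd (Subsingleton.elim g 1) hg⟩
  haveI := hnt
  -- `q` is not `p`
  have hinv : ∀ a : E, p • a = 0 → a = 0 := by
    intro a ha
    by_cases hqp : q = p
    · exfalso
      subst hqp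
      obtain ⟨g, hg⟩ := exists_ne (1 : P)
      obtain ⟨v, hv⟩ : ∃ v : E, g • v ≠ v := by
        by_contra h
        push Not at h
        exact hg (eq_of_smul_eq_smul fun v : E => by rw [h v, one_smul])
      have hv0 : v ≠ 0 := by rintro rfl; exact hv (smul_zero g)
      have hdvd : q ∣ Nat.card E := by
        have : addOrderOf v = q := addOrderOf_eq_prime (hE v) hv0
        exact this ▸ addOrderOf_dvd_natCard v
      obtain ⟨b, hb, hb0⟩ := hP.exists_fixed_point_of_prime_dvd_card_of_fixed_point E hdvd
        (a := (0 : E)) (fun x => smul_zero x)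
      have hbtop : MulAction.stabilizer P b = ⊤ := eq_top_iff.2 fun x _ => hb x
      have := hconst v b hv0 (Ne.symm hb0)
      rw [hbtop, Subgroup.card_top] at this
      exact hv (show g ∈ MulAction.stabilizer P v by rw [Subgroup.eq_top_of_card_eq _ this]; trivial)
    · have h1 : addOrderOf a ∣ Nat.gcd p q :=
        Nat.dvd_gcd (addOrderOf_dvd_of_nsmul_eq_zero ha) (addOrderOf_dvd_of_nsmul_eq_zero (hE a))
      rw [(Nat.coprime_primes hp.out hq).2 (Ne.symm hqp), Nat.dvd_one,
        AddMonoid.addOrderOf_eq_one_iff] at h1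
      exact h1
  obtain ⟨z, hzc, hzo⟩ : ∃ z : P, z ∈ Subgroup.center P ∧ orderOf z = p := by
    haveI := hP.center_nontrivial
    obtain ⟨k, hk⟩ := (hP.to_subgroup (Subgroup.center P)).exists_card_eq
    have hk0 : k ≠ 0 := by
      rintro rfl
      exact absurd hk (Finite.one_lt_card).ne'
    obtain ⟨z, hz⟩ := exists_prime_orderOf_dvd_card' (G := Subgroup.center P) p
      (hk ▸ dvd_pow_self p hk0)
    exact ⟨z, z.2, by rwa [Subgroup.orderOf_coe]⟩
  have hzp : z ^ p = 1 := hzo ▸ pow_orderOf_eq_one z
  have hz1 : z ≠ 1 := fun h => hp.out.one_lt.ne' (by rw [← hzo, h, orderOf_one])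
  have hzfpf : ∀ a : E, z • a = a → a = 0 := fun a => eq_zero_of_central_fixed hinv hconst hzp hz1
    (fun x => Subgroup.mem_center_iff.1 hzc x)
  have hzavg : ∀ a : E, avg p z a = 0 := fun a => hzfpf _ (smul_avg_self hzp a)
  have hall : ∀ x : P, x ^ p = 1 → x ∈ Subgroup.zpowers z := by
    by_contra hcon
    push Not at hcon
    obtain ⟨x₀, hx₀p, hx₀⟩ := hcon
    let Z := Subgroup.zpowers z
    haveI hZn : Z.Normal := ⟨fun y hy g => by
      obtain ⟨k, rfl⟩ := Subgroup.mem_zpowers_iff.1 hy
      rw [← conj_zpow, Subgroup.mem_center_iff.1 hzc g, mul_inv_cancel_right]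
      exact hy⟩
    have hZe : Cfsg.IsElementaryAbelian p Z := by
      refine ⟨inferInstance, fun y hy => ?_⟩
      obtain ⟨k, rfl⟩ := Subgroup.mem_zpowers_iff.1 hy
      rw [← zpow_natCast, ← zpow_mul, mul_comm, zpow_mul, zpow_natCast, hzp, one_zpow]
    have hx₀C : x₀ ∈ Subgroup.centralizer (Z : Set P) := by
      rw [Subgroup.mem_centralizer_iff]
      intro y hy
      obtain ⟨k, rfl⟩ := Subgroup.mem_zpowers_iff.1 hy
      exact ((show Commute z x₀ from (Subgroup.mem_center_iff.1 hzc x₀).symm).zpow_left k).eq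
    obtain ⟨F, hFn, hFe, hlt⟩ :=
      CfsgLib.OddOrder41.exists_normal_elementary_gt hp2 hP Z hZe x₀ hx₀C hx₀p hx₀
    haveI := hP.isNilpotent
    haveI := hFn
    obtain ⟨w₀, hw₀F, hw₀Z, hw₀⟩ := CfsgLib.OddOrder41.exists_central_step F Z hlt.not_ge
    have hw₀p : w₀ ^ p = 1 := hFe.2 w₀ hw₀F
    have hzc' : ∀ (n : ℕ) (g : P), Commute (z ^ n) g := fun n g =>
      (show Commute z g from (Subgroup.mem_center_iff.1 hzc g).symm).pow_left n
    -- the translates `w₀ * z ^ i`
    obtain ⟨v₀, hv₀⟩ : ∃ v : E, v ≠ 0 := by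
      by_contra h
      push Not at h
      exact hz1 (eq_of_smul_eq_smul fun v : E => by rw [h v, smul_zero, smul_zero])
    obtain ⟨i, hi⟩ : ∃ i ∈ Finset.range p, avg p (w₀ * z ^ i) v₀ ≠ 0 := by
      by_contra hcon
      push Not at hcon
      apply hv₀
      apply hinv
      have hsum : ∑ i ∈ Finset.range p, avg p (w₀ * z ^ i) v₀ = p • v₀ := by
        simp only [avg_apply]
        rw [Finset.sum_comm]
        have hterm : ∀ k ∈ Finset.range p,
            ∑ i ∈ Finset.range p, ((w₀ * z ^ i) ^ k) • v₀ = (w₀ ^ k) • avg p (z ^ k) v₀ := by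
          intro k _
          rw [avg_apply, Finset.smul_sum]
          refine Finset.sum_congr rfl fun i _ => ?_
          rw [(hzc' i w₀).symm.mul_pow, mul_smul, ← pow_mul, ← pow_mul, mul_comm]
        rw [Finset.sum_congr rfl hterm, Finset.sum_eq_single_of_mem 0 (Finset.mem_range.2 hp.out.pos)]
        · rw [pow_zero, pow_zero, one_smul, avg_of_fixed p (one_smul P v₀)]
        · intro k hk hk0
          have hzk : (z ^ k) ^ p = 1 := by rw [← pow_mul, mul_comm, pow_mul, hzp, one_pow]
          have : avg p (z ^ k) v₀ = 0 := by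
            apply hzfpf
            have hkc : Nat.Coprime k (orderOf z) := by
              rw [hzo]
              exact (hp.out.coprime_iff_not_dvd.2 fun h =>
                absurd (Nat.le_of_dvd (Nat.pos_of_ne_zero hk0) h) (not_le.2 (Finset.mem_range.1 hk))).symm
            obtain ⟨l, hl⟩ := exists_pow_eq_self_of_coprime hkc
            have hl' : ∀ l : ℕ, ((z ^ k) ^ l) • avg p (z ^ k) v₀ = avg p (z ^ k) v₀ := fun l => by
              induction l with
              | zero => rw [pow_zero, one_smul]
              | succ l ihl => rw [pow_succ, mul_smul, smul_avg_self hzk, ihl]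
            calc z • avg p (z ^ k) v₀ = ((z ^ k) ^ l) • avg p (z ^ k) v₀ := by rw [hl]
              _ = _ := hl' l
          rw [this, smul_zero]
      rw [← hsum]
      exact Finset.sum_eq_zero hcon
    obtain ⟨hir, hia⟩ := hi
    set w := w₀ * z ^ i with hw
    have hwp : w ^ p = 1 := by
      rw [hw, (hzc' i w₀).symm.mul_pow, hw₀p, one_mul, ← pow_mul, mul_comm, pow_mul, hzp, one_pow]
    set a := avg p w v₀ with ha
    have hwa : w • a = a := smul_avg_self hwp v₀
    have hwZ : w ∉ Z := fun h => hw₀Z (by
      have := mul_mem h (inv_mem (pow_mem (Subgroup.mem_zpowers z) i))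
      simpa [hw] using this)
    have hw1 : w ≠ 1 := fun h => hwZ (h ▸ one_mem _)
    have hconj : ∀ g : P, ∃ e : ℕ, g * w * g⁻¹ = w * z ^ e := by
      intro g
      have h1 : w⁻¹ * (g * w * g⁻¹) ∈ Z := by
        have h0 := hZn.conj_mem _ (inv_mem (hw₀ g)) w₀⁻¹
        have : w⁻¹ * (g * w * g⁻¹) = w₀⁻¹ * ⁅w₀, g⁆⁻¹ * w₀⁻¹⁻¹ := by
          rw [hw, mul_inv_rev, commutatorElement_def]
          calc (z ^ i)⁻¹ * w₀⁻¹ * (g * (w₀ * z ^ i) * g⁻¹)
              = (z ^ i)⁻¹ * (w₀⁻¹ * g * w₀) * (z ^ i * g⁻¹) := by group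
            _ = (w₀⁻¹ * g * w₀) * ((z ^ i)⁻¹ * (z ^ i * g⁻¹)) := by
              rw [((hzc' i _).inv_left).eq]; group
            _ = _ := by group
        rw [this]; exact h0
      obtain ⟨e, he⟩ := mem_powers_iff_mem_zpowers.2 h1
      simp only at he
      exact ⟨e, by rw [he, mul_inv_cancel_left]⟩
    by_cases hcent : ∀ g : P, g * w = w * g
    · exact hia (eq_zero_of_central_fixed hinv hconst hwp hw1 hcent hwa)
    push Not at hcent
    obtain ⟨g, hg⟩ := hcent
    obtain ⟨c, hgc⟩ := hconj g
    have hzeq : ∀ n : ℕ, z ^ n = 1 ↔ p ∣ n := fun n => by rw [← hzo, orderOf_dvd_iff_pow_eq_one]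
    have hc0 : ¬ p ∣ c := fun h => hg (by
      rw [(hzeq c).2 h, mul_one] at hgc
      exact mul_inv_eq_iff_eq_mul.1 hgc)
    -- projections
    have hproj : ∀ (j n : ℕ) (b : E), (w * z ^ n) • b = b → ¬ ((p : ℤ) ∣ (j : ℤ) - n) →
        avg p (w * z ^ j) b = 0 := by
      intro j n b hb hjn
      have hzjn : z ^ ((j : ℤ) - n) ≠ 1 := fun h => hjn (by
        rw [← hzo]; exact orderOf_dvd_iff_zpow_eq_one.2 h)
      have hpow : ∀ k : ℕ, ((w * z ^ n) ^ k) • b = b := fun k => by
        induction k with
        | zero => rw [pow_zero, one_smul]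
        | succ k ih => rw [pow_succ, mul_smul, hb, ih]
      have hw' : (w * z ^ j) ^ p = 1 := by
        rw [(hzc' j w).symm.mul_pow, hwp, one_mul, ← pow_mul, mul_comm, pow_mul, hzp, one_pow]
      have heq : (w * z ^ j) • b = (z ^ ((j : ℤ) - n)) • b := by
        conv_lhs => rw [← hb, smul_smul]
        have : w * z ^ j = z ^ ((j : ℤ) - n) * (w * z ^ n) := by
          calc w * z ^ j = z ^ (j : ℤ) * w := by rw [zpow_natCast]; exact ((hzc' j w).symm).eq
            _ = z ^ ((j : ℤ) - n) * z ^ (n : ℤ) * w := by rw [← zpow_add, sub_add_cancel]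
            _ = _ := by rw [mul_assoc (z ^ ((j : ℤ) - n)), zpow_natCast, (hzc' n w).eq]
        rw [this, mul_assoc, mul_smul, ← smul_smul, hb, hb]
      apply hzfpf
      have hfix : z ^ ((j : ℤ) - n) • avg p (w * z ^ j) b = avg p (w * z ^ j) b := by
        rw [smul_avg, ((show Commute z (w * z ^ j) from
          (Subgroup.mem_center_iff.1 hzc _).symm).zpow_left _).eq, mul_inv_cancel_right, ← heq,
          avg_smul_self hw']
      have hmem : z ^ ((j : ℤ) - n) ∈ MulAction.stabilizer P (avg p (w * z ^ j) b) := hfix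
      have hgen : z ∈ Subgroup.zpowers (z ^ ((j : ℤ) - n)) := by
        have heq2 : Subgroup.zpowers (z ^ ((j : ℤ) - n)) = Z := by
          refine Subgroup.eq_of_le_of_card_ge (Subgroup.zpowers_le.2 (zpow_mem (Subgroup.mem_zpowers z) _))
            (le_of_eq ?_)
          rw [Nat.card_zpowers, Nat.card_zpowers, hzo]
          refine (orderOf_eq_prime ?_ hzjn).symm
          rw [← zpow_natCast, ← zpow_mul, mul_comm, zpow_mul, zpow_natCast, hzp, one_zpow]
        rw [heq2]; exact Subgroup.mem_zpowers z
      exact (Subgroup.zpowers_le.2 hmem) hgen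
    set b := g • a with hb
    have hwb : (w * z ^ c) • b = b := by
      rw [← hgc, hb, mul_smul, mul_smul, inv_smul_smul, hwa]
    have hb0 : b ≠ 0 := fun h => hia (by
      rw [hb] at h
      rw [← inv_smul_smul g a, h, smul_zero])
    have hwa' : (w * z ^ 0) • a = a := by rwa [pow_zero, mul_one]
    have hpc : ¬ ((p : ℤ) ∣ (c : ℤ)) := fun h => hc0 (Int.natCast_dvd_natCast.1 h)
    have havga : avg p w b = 0 := by
      have h := hproj 0 c b hwb (by simpa using hpc)
      rwa [pow_zero, mul_one] at h
    have havgb : avg p (w * z ^ c) a = 0 := hproj c 0 a hwa' (by simpa using hpc)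
    have hab0 : a + b ≠ 0 := fun h => hia (hinv a (by
      have := congrArg (avg p w) h
      rwa [map_add, havga, add_zero, avg_of_fixed p hwa, map_zero] at this))
    have hle : MulAction.stabilizer P (a + b) ≤ MulAction.stabilizer P a ⊓ MulAction.stabilizer P b := by
      intro x hx
      rw [MulAction.mem_stabilizer_iff, smul_add] at hx
      obtain ⟨e, he⟩ := hconj x
      have hxa : (w * z ^ e) • x • a = x • a := by
        rw [← he, smul_smul, inv_mul_cancel_right, mul_smul, hwa]
      have hxb : (w * z ^ (c + e)) • x • b = x • b := by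
        have : x * (w * z ^ c) * x⁻¹ = w * z ^ (c + e) := by
          calc x * (w * z ^ c) * x⁻¹ = x * w * (z ^ c * x⁻¹) := by group
            _ = (x * w * x⁻¹) * z ^ c := by rw [(hzc' c x⁻¹).eq]; group
            _ = w * z ^ (c + e) := by rw [he, mul_assoc, ← pow_add, add_comm e c]
        rw [← this, smul_smul, inv_mul_cancel_right, mul_smul, hwb]
      by_cases he0 : p ∣ e
      · rw [(hzeq e).2 he0, mul_one] at hxa
        rw [pow_add, (hzeq e).2 he0, mul_one] at hxb
        have hab' : avg p w (x • b) = 0 := by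
          have h := hproj 0 c (x • b) hxb (by simpa using hpc)
          rwa [pow_zero, mul_one] at h
        have h := congrArg (avg p w) hx
        rw [map_add, map_add, hab', havga, avg_of_fixed p hxa, avg_of_fixed p hwa, add_zero,
          add_zero] at h
        have h1 := eq_of_nsmul_eq hinv h
        rw [h1, add_right_inj] at hx
        exact ⟨h1, hx⟩
      · exfalso
        have hpe : ¬ ((p : ℤ) ∣ (e : ℤ)) := fun h => he0 (Int.natCast_dvd_natCast.1 h)
        have hA : avg p w (x • a) = 0 := by
          have h := hproj 0 e (x • a) hxa (by simpa using hpe)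
          rwa [pow_zero, mul_one] at h
        by_cases hce : (p : ℤ) ∣ (c : ℤ) + e
        · -- then compare the components of `w * z ^ c`
          have h1 : avg p (w * z ^ c) (x • a) = 0 := by
            refine hproj c e _ hxa fun h => hpc ?_
            have h2 : (p : ℤ) ∣ 2 * c := by
              have := dvd_add hce h
              rwa [show (c : ℤ) + e + ((c : ℤ) - e) = 2 * c by ring] at this
            rcases (Nat.prime_iff_prime_int.1 hp.out).dvd_or_dvd h2 with h3 | h3
            · exact absurd ((Nat.prime_dvd_prime_iff_eq hp.out Nat.prime_two).1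
                (Int.natCast_dvd_natCast.1 h3)) hp2
            · exact h3
          have h3 : avg p (w * z ^ c) (x • b) = 0 := by
            refine hproj c (c + e) _ hxb fun h => hpe ?_
            have : (c : ℤ) - (c + e : ℕ) = -(e : ℤ) := by push_cast; ring
            rwa [this, dvd_neg] at h
          have h := congrArg (avg p (w * z ^ c)) hx
          rw [map_add, map_add, h1, h3, havgb, avg_of_fixed p hwb, zero_add, zero_add] at h
          exact hb0 (hinv b h.symm)
        · have hB : avg p w (x • b) = 0 := by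
            have h := hproj 0 (c + e) (x • b) hxb (fun h => hce (by have := dvd_neg.2 h; simpa [add_comm] using this))
            rwa [pow_zero, mul_one] at h
          have h := congrArg (avg p w) hx
          rw [map_add, map_add, hA, hB, havga, avg_of_fixed p hwa, add_zero, add_zero] at h
          exact hia (hinv a h.symm)
    have e1 := Subgroup.eq_of_le_of_card_ge (hle.trans inf_le_left) (hconst _ _ hia hab0).le
    have e2 := Subgroup.eq_of_le_of_card_ge (hle.trans inf_le_right) (hconst _ _ hb0 hab0).le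
    have hwb' : w • b = b := by
      rw [← MulAction.mem_stabilizer_iff, ← e2, e1]; exact hwa
    rw [avg_of_fixed p hwb'] at havga
    exact hb0 (hinv b havga)
  refine ⟨isCyclic_of_unique_prime_subgroup hp2 hP fun x y hx1 hxp hyp => ?_, fun g hg a ha => ?_⟩
  · have hxz : Subgroup.zpowers x = Subgroup.zpowers z := by
      refine Subgroup.eq_of_le_of_card_ge (Subgroup.zpowers_le.2 (hall x hxp)) (le_of_eq ?_)
      rw [Nat.card_zpowers, Nat.card_zpowers, hzo, orderOf_eq_prime hxp hx1]
    rw [hxz]; exact hall y hyp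
  · obtain ⟨k, hk⟩ := hP g
    obtain ⟨j, -, hj⟩ := (Nat.dvd_prime_pow hp.out).1 (orderOf_dvd_of_pow_eq_one hk)
    obtain ⟨j, rfl⟩ : ∃ l, j = l + 1 := by
      refine Nat.exists_eq_succ_of_ne_zero ?_
      rintro rfl
      exact hg (orderOf_eq_one_iff.1 (by simpa using hj))
    have hyp : (g ^ p ^ j) ^ p = 1 := by rw [← pow_mul, ← pow_succ, ← hj, pow_orderOf_eq_one]
    have hy1 : g ^ p ^ j ≠ 1 := fun h => by
      have := orderOf_dvd_of_pow_eq_one h
      rw [hj, pow_succ] at this
      exact absurd (Nat.le_of_dvd (pow_pos hp.out.pos j) this)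
        (not_le.2 ((Nat.lt_mul_iff_one_lt_right (pow_pos hp.out.pos j)).2 hp.out.one_lt))
    have hzy : z ∈ Subgroup.zpowers (g ^ p ^ j) := by
      have heq : Subgroup.zpowers (g ^ p ^ j) = Subgroup.zpowers z := by
        refine Subgroup.eq_of_le_of_card_ge (Subgroup.zpowers_le.2 (hall _ hyp)) (le_of_eq ?_)
        rw [Nat.card_zpowers, Nat.card_zpowers, hzo, orderOf_eq_prime hyp hy1]
      rw [heq]; exact Subgroup.mem_zpowers z
    exact hzfpf a (show z ∈ MulAction.stabilizer P a from
      (Subgroup.zpowers_le.2 (pow_mem (show g ∈ MulAction.stabilizer P a from ha) _)) hzy)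

end Module

end CfsgLib.ConstStab
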